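import Groth.Agent.QCoh.DevissageIdeal
import Groth.Agent.QCohMorita.Main
import Groth.Agent.Nakai.Birat
import Groth.Agent.ModPairLib.Basic
import Groth.Agent.GGTriv.Basic

/-! Generic isomorphisms between coherent modules along finite surjections. -/

set_option autoImplicit false
set_option linter.style.haveILetI false
set_option backward.isDefEq.respectTransparency false
set_option backward.isDefEq.respectTransparency.types false
set_option maxHeartbeats 1000000

universe u

open CategoryTheory CategoryTheory.Limits AlgebraicGeometry TopologicalSpace Opposite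

noncomputable section

namespace Groth.Agent.GenIsoFin

open Groth.Agent Groth.Agent.QCoh QCohMorita

variable {X Y : Scheme.{u}}

/-- On an integral locally Noetherian scheme coherent modules are free near the generic point. -/
theorem exists_free_below [IsIntegral X] [IsLocallyNoetherian X] {A : X.Modules} (hA : Coh.IsCoh A) :
    ∃ W : X.Opens, genericPoint X ∈ W ∧ ∀ V : X.Opens, IsAffineOpen V → V ≤ W →
      ∃ n : ℕ, Nonempty (Γ(A, V) ≃ₗ[Γ(X, V)] (Fin n → Γ(X, V))) := by
  letI : Field (X.presheaf.stalk (genericPoint X)) := inferInstanceAs (Field X.functionField)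
  haveI : Module.Free (X.presheaf.stalk (genericPoint X)) (A.presheaf.stalk (genericPoint X)) := inferInstance
  obtain ⟨W, n, hW, ⟨e⟩⟩ := exists_free_nhd_of_free_stalk (isCoh_iff_isFP.1 hA) (genericPoint X)
  refine ⟨W, hW, fun V hV hle => ⟨n, ?_⟩⟩
  obtain ⟨l⟩ := free_sections hV hle e
  exact ⟨l.trans ((Finsupp.linearEquivFunOnFinite _ _ _).trans (LinearEquiv.funCongrLeft _ _ Equiv.ulift.symm))⟩

/-- Being bijective on an affine open is being bijective on all smaller opens. -/
theorem bijective_app_le {A B : X.Modules} (hA : Coh.IsQCoh A) (hB : Coh.IsQCoh B) (a : A ⟶ B) {V : X.Opens}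
    (hV : IsAffineOpen V) (hb : Function.Bijective (a.app V)) {W : X.Opens} (hW : W ≤ V) :
    Function.Bijective (a.app W) := by
  let j := hV.fromSpec
  let a' := (Scheme.Modules.restrictFunctor j).map a
  have hj : j ''ᵁ (⊤ : (Spec Γ(X, V)).Opens) = V := by
    rw [Scheme.Hom.image_top_eq_opensRange, hV.opensRange_fromSpec]
  have hb' : ∀ V' : X.Opens, V' = V → Function.Bijective (a.app V') := fun _ h => h ▸ hb
  haveI : IsIso (A.restrict j).fromTildeΓ := (isQuasicoherent_iff_isIso_fromTildeΓ _).1 (isQCoh_restrict j hA)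
  haveI : IsIso (B.restrict j).fromTildeΓ := (isQuasicoherent_iff_isIso_fromTildeΓ _).1 (isQCoh_restrict j hB)
  haveI : IsIso (moduleSpecΓFunctor.map a') :=
    (ConcreteCategory.isIso_iff_bijective _).2 (hb' _ hj)
  haveI : IsIso a' := by
    have h := Scheme.Modules.fromTildeΓNatTrans.naturality (X := A.restrict j) (Y := B.restrict j) a'
    have h' : a' = inv (A.restrict j).fromTildeΓ ≫ (tilde.functor Γ(X, V)).map (moduleSpecΓFunctor.map a') ≫
        (B.restrict j).fromTildeΓ := by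
      rw [IsIso.eq_inv_comp]
      exact h.symm
    rw [h']
    infer_instance
  have hWj : j ''ᵁ (j ⁻¹ᵁ W) = W := by
    rw [Scheme.Hom.image_preimage_eq_opensRange_inf, hV.opensRange_fromSpec, inf_eq_right.2 hW]
  have key : ∀ W' : X.Opens, W' = j ''ᵁ (j ⁻¹ᵁ W) → Function.Bijective (a.app W') := fun _ e => e ▸
    ConcreteCategory.bijective_of_isIso (Scheme.Modules.Hom.app a' (j ⁻¹ᵁ W))
  exact key W hWj.symm

/-- Morphisms between direct sums of sections. -/
def sumSections {β : Type u} [Fintype β] (T : β → X.Modules) (V : X.Opens) :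
    Γ(⨁ T, V) ≃ₗ[Γ(X, V)] (∀ k, Γ(T k, V)) := by
  refine LinearEquiv.ofBijective
    { toFun := fun x k => (biproduct.π T k).app V x
      map_add' := fun x y => funext fun k => map_add _ x y
      map_smul' := fun r x => funext fun k => Scheme.Modules.Hom.app_smul _ r x } ⟨fun x y h => ?_, fun y => ?_⟩
  · rw [biproduct_app_decomp T V x, biproduct_app_decomp T V y]
    exact Finset.sum_congr rfl fun k _ => congrArg _ (congrFun h k)
  · classical
    refine ⟨∑ l, (biproduct.ι T l).app V (y l), funext fun k => ?_⟩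
    show (biproduct.π T k).app V (∑ l, (biproduct.ι T l).app V (y l)) = y k
    rw [map_sum, Finset.sum_eq_single k]
    · exact congr(($(biproduct.ι_π_self T k)).app V (y k))
    · intro l _ hl
      exact congr(($(biproduct.ι_π_ne T hl)).app V (y l))
    · exact fun h => absurd (Finset.mem_univ k) h

/-- Swapping the two indices. -/
def flipEquiv {R : Type u} [CommRing R] (d r : ℕ) :
    (ULift.{u} (Fin d) → Fin r → R) ≃ₗ[R] (ULift.{u} (Fin r) → Fin d → R) where
  toFun g := fun i j => g ⟨j⟩ i.down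
  invFun g := fun j i => g ⟨i⟩ j.down
  map_add' _ _ := rfl
  map_smul' _ _ := rfl

theorem gen_eq {r : ℕ} {F : X.Modules} (t : ULift.{u} (Fin r) → Γ(F, ⊤)) (k : Fin r) (V : X.Opens) :
    GGTriv.gen ((freeModIso X r).hom ≫ Sigma.desc fun i => InvX.ofSect (t i)) k V =
      (F.presheaf.map (homOfLE (le_top : V ≤ ⊤)).op) (t ⟨k⟩) := by
  have h : Sigma.ι (fun _ : Fin r => Coh.structureModule X) k ≫
      ((freeModIso X r).hom ≫ Sigma.desc fun i => InvX.ofSect (t i)) = InvX.ofSect (t ⟨k⟩) := by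
    simp [freeModIso]
  refine (congrArg (fun q => ExtPowSh.appL q V (show (Coh.structureModule X).val.obj (op V) from (1 : Γ(X, V)))) h).trans ?_
  refine Eq.trans ?_ (congrArg (F.presheaf.map (homOfLE (le_top : V ≤ ⊤)).op) (InvX.one_ofSect (t ⟨k⟩)))
  refine Eq.trans ?_ (map_app_comm (InvX.ofSect (t ⟨k⟩)) (homOfLE (le_top : V ≤ ⊤)) (1 : Γ(X, ⊤)))
  exact congrArg ((InvX.ofSect (t ⟨k⟩)).app V) (map_one (X.presheaf.map (homOfLE (le_top : V ≤ ⊤)).op).hom).symm

section extSections

variable [QuasiSeparatedSpace X] {U : X.Opens} (hU : IsAffineOpen U)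

theorem E_bijective (N : ModuleCat.{u} Γ(X, U)) : Function.Bijective (sect hU (𝟙 (ext hU N))) := by
  have h0 : Function.Bijective (moduleSpecΓFunctor.map ((Scheme.Modules.restrictFunctor hU.fromSpec).map (𝟙 (ext hU N).obj) ≫
      (Scheme.Modules.restrictAdjunction hU.fromSpec).counit.app (tilde N)) ≫
      ((tilde.toTildeΓNatIso (R := Γ(X, U))).app N).inv).hom := by
    haveI : IsIso ((Scheme.Modules.restrictFunctor hU.fromSpec).map (𝟙 (ext hU N).obj)) := inferInstance
    exact ConcreteCategory.bijective_of_isIso _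
  exact h0.comp (chartEquiv hU (ext hU N).obj).bijective

theorem E_injective (N : ModuleCat.{u} Γ(X, U)) : Function.Injective (sect hU (𝟙 (ext hU N))) :=
  (E_bijective hU N).1

theorem wB_surj {B : X.Modules} {hB : Coh.IsQCoh B}
    (w : (⟨B, hB⟩ : QCohCat.QCoh X) ⟶ ext hU (ModuleCat.of Γ(X, U) Γ(B, U))) (hw : sect hU w = LinearMap.id) :
    Function.Surjective (w.hom.app U) := fun z => by
  refine ⟨sect hU (𝟙 _) z, E_injective hU _ ?_⟩
  have h := LinearMap.congr_fun (sect_precomp hU w (𝟙 _)) (sect hU (𝟙 _) z)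
  rw [Category.comp_id, hw] at h
  exact h.symm

/-- Sections of an extended module over `U` extend to the whole scheme. -/
theorem surjective_res_ext (N : ModuleCat.{u} Γ(X, U)) (y : Γ((ext hU N).obj, U)) :
    ∃ t : Γ((ext hU N).obj, ⊤), (ext hU N).obj.presheaf.map (homOfLE (le_top : U ≤ ⊤)).op t = y := by
  have e : hU.fromSpec ⁻¹ᵁ U = hU.fromSpec ⁻¹ᵁ ⊤ := by rw [hU.fromSpec_preimage_self]; rfl
  refine ⟨(tilde N).presheaf.map (eqToHom e.symm).op y, ?_⟩
  exact (map_map (M := tilde N) _ _ (show Γ(tilde N, hU.fromSpec ⁻¹ᵁ U) from y)).trans (map_id' (M := tilde N) _ _)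

end extSections

section extend

variable [IsNoetherian X]

/-- A linear map between sections over an affine open extends to a multiple by an ideal trivial there. -/
theorem exists_extend {A B : X.Modules} (hA : Coh.IsCoh A) (hB : Coh.IsCoh B) {V : X.Opens} (hV : IsAffineOpen V)
    (φ : Γ(A, V) →ₗ[Γ(X, V)] Γ(B, V)) :
    ∃ J : X.IdealSheafData, J.ideal ⟨V, hV⟩ = ⊤ ∧ ∀ (G : X.Modules) (l : G ⟶ A), Coh.IsQCoh G →
      (∀ (W : X.Opens) (hW : IsAffineOpen W) (x : Γ(G, W)),
        l.app W x ∈ J.ideal ⟨W, hW⟩ • (⊤ : Submodule Γ(X, W) Γ(A, W))) →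
      ∃ ψ : G ⟶ B, ∀ x, ψ.app V x = φ (l.app V x) := by
  classical
  haveI : HasFiniteBiproducts X.Modules := hasFiniteBiproducts X
  let N : ModuleCat.{u} Γ(X, V) := ModuleCat.of Γ(X, V) Γ(B, V)
  let A₀ : QCohCat.QCoh X := ⟨A, hA.1⟩
  let B₀ : QCohCat.QCoh X := ⟨B, hB.1⟩
  let P := ext hV N
  obtain ⟨wA, hwA⟩ := (sect_bijective hV A₀ N).2 φ
  obtain ⟨wB, hwB⟩ := (sect_bijective hV B₀ N).2 LinearMap.id
  let E := sect hV (𝟙 P)
  have hsect : ∀ {F : QCohCat.QCoh X} (w : F ⟶ P) (x : Γ(F.obj, V)), sect hV w x = E (w.hom.app V x) :=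
    fun w x => by
      conv_lhs => rw [← Category.comp_id w, sect_precomp]
      rfl
  have hBinj : ∀ y, wB.hom.app V y = 0 → y = 0 := fun y hy => by
    have := hsect wB y
    rw [hwB, hy, map_zero] at this
    exact this
  have hEsurj : Function.Surjective E := fun y => ⟨wB.hom.app V y, ((hsect wB y).symm.trans (by rw [hwB]; rfl))⟩
  -- a submodule of `B` injecting into the extension
  let J₀ := Scheme.IdealSheafData.vanishingIdeal (⟨(V : Set X)ᶜ, V.2.isClosed_compl⟩ : Closeds X)
  have hJ₀ : J₀.ideal ⟨V, hV⟩ = ⊤ := (Ideal.eq_top_iff_one _).2 (by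
    rw [Scheme.IdealSheafData.vanishingIdeal_ideal, PrimeSpectrum.mem_vanishingIdeal]
    exact fun q hq => absurd (hV.range_fromSpec.le (Set.mem_range_self q)) hq)
  have hJpow : ∀ m (W : X.affineOpens), (J₀ ^ m).ideal W = J₀.ideal W ^ m := fun m W => by
    rw [Scheme.IdealSheafData.ideal_pow, Pi.pow_apply]
  have hks : CohB1.support (kernel wB.hom) ⊆ (J₀.support : Set X) := fun x hx => by
    rw [Scheme.IdealSheafData.coe_support_vanishingIdeal]
    intro hxV
    refine notMem_support_kernel hB.1 P.2 wB.hom hV hxV (fun y hy => ⟨1, ?_, ?_⟩) hx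
    · rw [Scheme.basicOpen_of_isUnit _ isUnit_one]; exact hxV
    · rw [one_smul]; exact hBinj y hy
  obtain ⟨n, hn⟩ := exists_pow_mono hB (isCoh_of_mono (kernel.ι wB.hom) hB (isQCoh_kernel hB.1 P.2 wB.hom))
    (kernel.ι wB.hom) J₀ hks
  let J₁ := J₀ ^ n
  let u := (Scheme.Modules.pullbackPushforwardAdjunction J₁.subschemeι).unit.app B
  let χ : kernel u ⟶ P.obj := kernel.ι u ≫ wB.hom
  haveI : Mono χ := Preadditive.mono_of_cancel_zero _ fun {T} g hg => by
    have hl := kernel.lift_ι wB.hom (g ≫ kernel.ι u) ((Category.assoc _ _ _).trans hg)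
    have h0 : kernel.lift wB.hom (g ≫ kernel.ι u) ((Category.assoc _ _ _).trans hg) ≫ (kernel.ι wB.hom ≫ u) = 0 := by
      rw [← Category.assoc, hl, Category.assoc, kernel.condition, comp_zero]
    haveI : Mono (kernel.ι wB.hom ≫ u) := hn
    rw [zero_of_comp_mono (kernel.ι wB.hom ≫ u) h0] at hl
    exact zero_of_comp_mono (kernel.ι u) (hl.symm.trans zero_comp)
  have huq : Coh.IsQCoh ((Scheme.Modules.pullback J₁.subschemeι ⋙
      Scheme.Modules.pushforward J₁.subschemeι).obj B) :=
    isQCoh_pushforward J₁.subschemeι (isQCoh_pullback J₁.subschemeι hB.1)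
  have hB'q : Coh.IsQCoh (kernel u) := isQCoh_kernel hB.1 huq u
  let c : A ⟶ cokernel χ := wA.hom ≫ cokernel.π χ
  have hCq : Coh.IsQCoh (cokernel χ) := isQCoh_cokernel hB'q P.2 χ
  have hc : ∀ x : Γ(A, V), c.app V x = 0 := fun x => by
    obtain ⟨y, hy⟩ := exists_kernel_lift u V (φ x) (((unit_app_closed J₁.subschemeι hB.1 hV).2 _).2 (by
      rw [Scheme.IdealSheafData.ker_subschemeι, hJpow, hJ₀, Ideal.top_pow, Submodule.top_smul]
      trivial))
    have he : wA.hom.app V x = χ.app V y := by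
      have h1 := hsect wA x
      have h2 := hsect wB (φ x)
      rw [hwA] at h1
      rw [hwB] at h2
      refine (?_ : wA.hom.app V x = wB.hom.app V (φ x)).trans (congrArg _ hy.symm)
      exact E_injective hV N (h1.symm.trans h2)
    show (cokernel.π χ).app V (wA.hom.app V x) = 0
    rw [he]
    exact congr(($(cokernel.condition χ)).app V y)
  let K := Abelian.coimage c
  have hK : Coh.IsCoh K := isCoh_cokernel (isQCoh_kernel hA.1 hCq c) hA (kernel.ι c)
  have hKs : CohB1.support K ⊆ (J₀.support : Set X) := fun x hx => by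
    rw [Scheme.IdealSheafData.coe_support_vanishingIdeal]
    intro hxV
    refine notMem_support_cokernel (isQCoh_kernel hA.1 hCq c) hA.1 (kernel.ι c) hV hxV (fun y => ⟨1, ?_, ?_⟩) hx
    · rw [Scheme.basicOpen_of_isUnit _ isUnit_one]; exact hxV
    · rw [one_smul]; exact exists_kernel_lift c V y (hc y)
  choose U hU hxU using fun x : X => exists_affine_mem x
  obtain ⟨t, ht⟩ := isCompact_univ.elim_finite_subcover (fun x : X => (U x : Set X))
    (fun x => (U x).2) (fun x _ => Set.mem_iUnion.2 ⟨x, hxU x⟩)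
  choose m hm using fun x : X => exists_pow_le_annihilator hK J₀ hKs ⟨U x, hU x⟩
  refine ⟨J₀ ^ t.sup m, by rw [hJpow, hJ₀, Ideal.top_pow], fun G l hG hl => ?_⟩
  have hlc : l ≫ Abelian.coimage.π c = 0 := by
    let d := l ≫ Abelian.coimage.π c
    have hdU : ∀ x ∈ t, ∀ y, d.app (U x) y = 0 := fun x hx y => by
      let π₀ := ExtPowSh.appL (Abelian.coimage.π c) (U x)
      show π₀ (l.app (U x) y) = 0
      have hmem := Submodule.mem_map_of_mem (f := π₀) (hl (U x) (hU x) y)
      rw [Submodule.map_smul'', hJpow] at hmem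
      refine (Submodule.mem_bot Γ(X, U x)).1 ((Submodule.smul_le (P := (⊥ : Submodule Γ(X, U x) Γ(K, U x)))).2 ?_ hmem)
      intro r hr z _
      rw [Submodule.mem_bot]
      exact Module.mem_annihilator.1 (hm x (Ideal.pow_le_pow_right (Finset.le_sup hx) hr)) z
    have hz : IsZero (Abelian.coimage d) := by
      have hk := isQCoh_kernel hG hK.1 d
      refine isZero_of_cover (isQCoh_cokernel hk hG (kernel.ι d)) (fun x : t => U x.1) (fun x => hU x.1)
        (fun p => by
          obtain ⟨x, hx, hp⟩ := Set.mem_iUnion₂.1 (ht (Set.mem_univ p))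
          exact ⟨⟨x, hx⟩, hp⟩)
        fun x => ⟨fun a b => ?_⟩
      obtain ⟨a, rfl⟩ := app_surjective_of_epi hG (isQCoh_cokernel hk hG (kernel.ι d)) (Abelian.coimage.π d) (hU x.1) a
      obtain ⟨b, rfl⟩ := app_surjective_of_epi hG (isQCoh_cokernel hk hG (kernel.ι d)) (Abelian.coimage.π d) (hU x.1) b
      obtain ⟨a', rfl⟩ := exists_kernel_lift d (U x.1) a (hdU x.1 x.2 a)
      obtain ⟨b', rfl⟩ := exists_kernel_lift d (U x.1) b (hdU x.1 x.2 b)
      exact (congr(($(cokernel.condition (kernel.ι d))).app (U x.1) a') : _).trans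
        (congr(($(cokernel.condition (kernel.ι d))).app (U x.1) b') : _).symm
    show d = 0
    rw [← Abelian.coimage.fac d, hz.eq_of_tgt (Abelian.coimage.π d) 0, zero_comp]
  have hlc' : (l ≫ wA.hom) ≫ cokernel.π χ = 0 := by
    rw [Category.assoc]
    show l ≫ c = 0
    rw [← Abelian.coimage.fac c, ← Category.assoc, hlc, zero_comp]
  obtain ⟨g, hg⟩ := KernelFork.IsLimit.lift' (Abelian.monoIsKernelOfCokernel _ (cokernelIsCokernel χ)) (l ≫ wA.hom) hlc'
  refine ⟨g ≫ kernel.ι u, fun x => ?_⟩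
  have h1 : wB.hom.app V ((g ≫ kernel.ι u).app V x) = wA.hom.app V (l.app V x) := congr(($hg).app V x)
  have h2 := hsect wB ((g ≫ kernel.ι u).app V x)
  rw [hwB, h1, ← hsect wA, hwA] at h2
  exact h2

end extend

/-- The generic form of a finite surjection's direct image. -/
theorem exists_generic [IsIntegral X] [IsNoetherian X] [IsIntegral Y] [IsNoetherian Y] (f : X ⟶ Y) [IsFinite f]
    [Surjective f] {F : Y.Modules} (hF : Coh.IsCoh F) :
    ∃ (V : Y.Opens) (r d : ℕ), IsAffineOpen V ∧ genericPoint Y ∈ V ∧ 0 < r ∧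
      Nonempty (Γ((Scheme.Modules.pushforward f).obj (Coh.structureModule X), V) ≃ₗ[Γ(Y, V)] (Fin r → Γ(Y, V))) ∧
      Nonempty (Γ(F, V) ≃ₗ[Γ(Y, V)] (Fin d → Γ(Y, V))) := by
  have hf : Coh.IsCoh ((Scheme.Modules.pushforward f).obj (Coh.structureModule X)) :=
    isCoh_pushforward_finite f isCoh_structureModule'
  obtain ⟨W₁, h₁, hW₁⟩ := exists_free_below hf
  obtain ⟨W₂, h₂, hW₂⟩ := exists_free_below hF
  obtain ⟨_, ⟨V, hV, rfl⟩, hη, hle⟩ := Y.isBasis_affineOpens.exists_subset_of_mem_open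
    (show genericPoint Y ∈ ((W₁ ⊓ W₂ : Y.Opens) : Set Y) from ⟨h₁, h₂⟩) (W₁ ⊓ W₂).2
  obtain ⟨r, ⟨e⟩⟩ := hW₁ V hV fun x hx => (hle hx).1
  obtain ⟨d, he'⟩ := hW₂ V hV fun x hx => (hle hx).2
  refine ⟨V, r, d, hV, hη, Nat.pos_of_ne_zero fun h => ?_, ⟨e⟩, he'⟩
  subst h
  obtain ⟨x, hx⟩ := f.surjective (genericPoint Y)
  haveI : Nonempty ↥(f ⁻¹ᵁ V) := ⟨⟨x, show f x ∈ V from hx ▸ hη⟩⟩
  haveI : Subsingleton Γ((Scheme.Modules.pushforward f).obj (Coh.structureModule X), V) := e.toEquiv.subsingleton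
  exact one_ne_zero (α := Γ(X, f ⁻¹ᵁ V))
    (Subsingleton.elim (α := Γ((Scheme.Modules.pushforward f).obj (Coh.structureModule X), V)) _ _)

theorem isIso_stalk_generic {A B : Y.Modules} (hA : Coh.IsQCoh A) (hB : Coh.IsQCoh B) (a : A ⟶ B) {V : Y.Opens}
    (hV : IsAffineOpen V) {y : Y} (hy : y ∈ V) (hb : Function.Bijective (a.app V)) :
    IsIso ((TopCat.Presheaf.stalkFunctor AddCommGrpCat.{u} y).map ((SheafOfModules.toSheaf Y.ringCatSheaf).map a).hom) := by
  have h := Nakai.isIso_stalk_of_bijective a (U := V) (fun W hW => bijective_app_le hA hB a hV hb hW) hy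
  rw [ConcreteCategory.isIso_iff_bijective] at h ⊢
  exact h

theorem exists_from_free [IsIntegral X] [IsNoetherian X] [IsIntegral Y] [IsNoetherian Y] (f : X ⟶ Y) [IsFinite f]
    [Surjective f] :
    ∃ (r : ℕ) (M : X.Modules) (α : (SheafOfModules.free (ULift.{u} (Fin r)) : Y.Modules) ⟶ (Scheme.Modules.pushforward f).obj M),
      0 < r ∧ Coh.IsCoh M ∧
      IsIso ((TopCat.Presheaf.stalkFunctor AddCommGrpCat.{u} (genericPoint ↥Y)).map ((SheafOfModules.toSheaf Y.ringCatSheaf).map α).hom) := by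
  classical
  haveI : HasFiniteBiproducts X.Modules := hasFiniteBiproducts X
  haveI : HasFiniteBiproducts Y.Modules := hasFiniteBiproducts Y
  obtain ⟨V, r, _, hV, hη, hr, ⟨e⟩, -⟩ := exists_generic f (F := Coh.structureModule Y) isCoh_structureModule'
  let U := f ⁻¹ᵁ V
  have hU : IsAffineOpen U := hV.preimage f
  let O := Coh.structureModule X
  let P : QCohCat.QCoh X := ext hU (ModuleCat.of Γ(X, U) Γ(O, U))
  obtain ⟨w, hw⟩ := (sect_bijective hU ⟨O, isQCoh_structureModule⟩ (ModuleCat.of Γ(X, U) Γ(O, U))).2 LinearMap.id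
  let j₀ : O ⟶ P.obj := w.hom
  let E := sect hU (𝟙 P)
  have hE : ∀ x : Γ(O, U), E (j₀.app U x) = x := fun x => by
    have h := LinearMap.congr_fun (sect_precomp hU w (𝟙 P)) x
    rw [Category.comp_id, hw] at h
    exact h.symm
  let b : Fin r → Γ(O, U) := fun k => e.symm (Pi.single k 1)
  have hsec : ∀ k, ∃ t : Γ(P.obj, ⊤), (P.obj.presheaf.map (homOfLE (le_top : U ≤ ⊤)).op) t = j₀.app U (b k) :=
    fun k => surjective_res_ext hU _ _
  choose t ht using hsec
  let T : ULift.{u} (Fin r) → X.Modules := fun _ => O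
  let π : (⨁ T) ⟶ P.obj := biproduct.desc fun k => InvX.ofSect (t k.down)
  have hT : Coh.IsCoh (⨁ T) := isCoh_biproduct T fun _ => isCoh_structureModule'
  let M := Abelian.coimage π
  have hk := isQCoh_kernel hT.1 P.2 π
  have hM : Coh.IsCoh M := isCoh_cokernel hk hT (kernel.ι π)
  let μ : M ⟶ P.obj := Abelian.factorThruCoimage π
  let s : Fin r → Γ(M, ⊤) := fun k =>
    (biproduct.ι T (ULift.up k) ≫ Abelian.coimage.π π).app ⊤ (1 : Γ(X, ⊤))
  let α : (SheafOfModules.free (ULift.{u} (Fin r)) : Y.Modules) ⟶ (Scheme.Modules.pushforward f).obj M :=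
    Sigma.desc fun k : ULift.{u} (Fin r) =>
      InvX.ofSect (M := (Scheme.Modules.pushforward f).obj M) (show Γ((Scheme.Modules.pushforward f).obj M, ⊤) from s k.down)
  refine ⟨r, M, α, hr, hM, ?_⟩
  let α' : FlatMod.freeMod Y r ⟶ (Scheme.Modules.pushforward f).obj M := (freeModIso Y r).hom ≫ α
  have hgen : ∀ k, GGTriv.gen α' k V = (show Γ((Scheme.Modules.pushforward f).obj M, V) from
      (M.presheaf.map (homOfLE (le_top : U ≤ ⊤)).op) (s k)) := fun k => gen_eq _ _ _
  have hval : ∀ k, E (μ.app U ((M.presheaf.map (homOfLE (le_top : U ≤ ⊤)).op) (s k))) = b k := fun k => by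
    have h1 : μ.app U ((M.presheaf.map (homOfLE (le_top : U ≤ ⊤)).op) (s k)) = j₀.app U (b k) := by
      rw [map_app_comm, ← ht k]
      refine congrArg _ ?_
      have h2 : (biproduct.ι T (ULift.up k) ≫ Abelian.coimage.π π) ≫ μ = InvX.ofSect (t k) := by
        rw [Category.assoc, Abelian.coimage.fac, biproduct.ι_desc]
      exact (congr(($h2).app ⊤ (1 : Γ(X, ⊤))) : _).trans (InvX.one_ofSect (t k))
    rw [h1, hE]
  have hμinj : Function.Injective (fun m : Γ(M, U) => E (μ.app U m)) := fun m m' h => by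
    apply app_injective μ U
    exact E_injective hU _ h
  let Λ : Γ((Scheme.Modules.pushforward f).obj M, V) →ₗ[Γ(Y, V)] Γ((Scheme.Modules.pushforward f).obj O, V) :=
    { toFun := fun m => (show Γ(O, U) from E (μ.app U (show Γ(M, U) from m)))
      map_add' := fun a c => (congrArg E (map_add (μ.app U).hom a c)).trans (map_add E _ _)
      map_smul' := fun a m => (congrArg E (Scheme.Modules.Hom.app_smul μ (f.app V a) (show Γ(M, U) from m))).trans (map_smul E (f.app V a) _) }
  let L : (FlatMod.freeMod Y r).val.obj (op V) →ₗ[Γ(Y, V)] Γ((Scheme.Modules.pushforward f).obj O, V) :=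
    Λ.comp (ExtPowSh.appL α' V)
  have hL : Function.Surjective L := fun y => by
    refine ⟨∑ k, (e y k) • ExtPowSh.appL (Sigma.ι (fun _ : Fin r => Coh.structureModule Y) k) V
      (show (Coh.structureModule Y).val.obj (op V) from (1 : Γ(Y, V))), ?_⟩
    rw [map_sum]
    have hk : ∀ k, L (ExtPowSh.appL (Sigma.ι (fun _ : Fin r => Coh.structureModule Y) k) V
        (show (Coh.structureModule Y).val.obj (op V) from (1 : Γ(Y, V)))) = e.symm (Pi.single k 1) := fun k =>
      (congrArg Λ (hgen k)).trans (hval k)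
    simp only [map_smul, hk]
    rw [← Finset.sum_congr rfl fun k _ => map_smul e.symm (e y k) _, ← map_sum, ← pi_eq_sum_univ' (e y)]
    exact e.symm_apply_apply y
  obtain ⟨l⟩ := free_sections hV le_top (n := r) (M := FlatMod.freeMod Y r) (freeModRestrict _ r)
  let l' := l.trans ((Finsupp.linearEquivFunOnFinite _ _ _).trans (LinearEquiv.funCongrLeft _ _ Equiv.ulift.symm))
  have hbijL : Function.Bijective L := by
    have h := OrzechProperty.bijective_of_surjective_endomorphism
      (e.toLinearMap.comp (L.comp l'.symm.toLinearMap))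
      (e.surjective.comp (hL.comp l'.symm.surjective))
    exact (Function.Bijective.of_comp_iff _ l'.symm.bijective).1
      ((Function.Bijective.of_comp_iff' e.bijective _).1 h)
  have hαb : Function.Bijective (α'.app V) := by
    refine ⟨fun a c h => hbijL.1 (congrArg Λ h), fun m => ?_⟩
    obtain ⟨z, hz⟩ := hbijL.2 (Λ m)
    exact ⟨z, hμinj hz⟩
  have hfree : Coh.IsQCoh (SheafOfModules.free (ULift.{u} (Fin r)) : Y.Modules) :=
    (isQCoh_iff_iso (freeModIso Y r)).1 (GGTriv.isQCoh_freeMod r)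
  refine isIso_stalk_generic hfree (isQCoh_pushforward f hM.1) α hV hη ?_
  exact (Function.Bijective.of_comp_iff _
    (ConcreteCategory.bijective_of_isIso (Scheme.Modules.Hom.app (freeModIso Y r).hom V))).1 hαb

theorem exists_to_power [IsIntegral X] [IsNoetherian X] [IsIntegral Y] [IsNoetherian Y] (f : X ⟶ Y) [IsFinite f]
    [Surjective f] {F : Y.Modules} (hF : Coh.IsCoh F) :
    ∃ (r : ℕ) (G : X.Modules) (β : (Scheme.Modules.pushforward f).obj G ⟶ ∐ fun _ : ULift.{u} (Fin r) => F),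
      0 < r ∧ Coh.IsCoh G ∧
      IsIso ((TopCat.Presheaf.stalkFunctor AddCommGrpCat.{u} (genericPoint ↥Y)).map ((SheafOfModules.toSheaf Y.ringCatSheaf).map β).hom) := by
  classical
  haveI : HasFiniteBiproducts X.Modules := hasFiniteBiproducts X
  haveI : HasFiniteBiproducts Y.Modules := hasFiniteBiproducts Y
  obtain ⟨V, r, d, hV, hη, hr, ⟨e⟩, ⟨e'⟩⟩ := exists_generic f hF
  let U := f ⁻¹ᵁ V
  let T : ULift.{u} (Fin d) → X.Modules := fun _ => Coh.structureModule X
  let S : ULift.{u} (Fin r) → Y.Modules := fun _ => F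
  have hT : Coh.IsCoh (⨁ T) := isCoh_biproduct T fun _ => isCoh_structureModule'
  have hS : Coh.IsCoh (⨁ S) := isCoh_biproduct S fun _ => hF
  let A := (Scheme.Modules.pushforward f).obj (⨁ T)
  let iA : Γ(A, V) ≃ₗ[Γ(Y, V)] (ULift.{u} (Fin d) → Γ((Scheme.Modules.pushforward f).obj (Coh.structureModule X), V)) :=
    { toFun := fun x => sumSections T U (show Γ(⨁ T, U) from x)
      invFun := fun y => (sumSections T U).symm y
      left_inv := fun x => (sumSections T U).symm_apply_apply _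
      right_inv := fun y => (sumSections T U).apply_symm_apply _
      map_add' := fun x y => map_add (sumSections T U) _ _
      map_smul' := fun a x => map_smul (sumSections T U) (f.app V a) _ }
  let iB : Γ(⨁ S, V) ≃ₗ[Γ(Y, V)] (ULift.{u} (Fin r) → Fin d → Γ(Y, V)) :=
    (sumSections S V).trans (LinearEquiv.piCongrRight fun _ => e')
  let φ : Γ(A, V) ≃ₗ[Γ(Y, V)] Γ(⨁ S, V) :=
    (iA.trans ((LinearEquiv.piCongrRight fun _ => e).trans (flipEquiv d r))).trans iB.symm
  obtain ⟨J, hJV, hJ⟩ := exists_extend (isCoh_pushforward_finite f hT) hS hV φ.toLinearMap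
  let J' := J.comap f
  let v := (Scheme.Modules.pullbackPushforwardAdjunction J'.subschemeι).unit.app (⨁ T)
  have hvq : Coh.IsQCoh ((Scheme.Modules.pullback J'.subschemeι ⋙
      Scheme.Modules.pushforward J'.subschemeι).obj (⨁ T)) :=
    isQCoh_pushforward J'.subschemeι (isQCoh_pullback J'.subschemeι hT.1)
  have hG : Coh.IsCoh (kernel v) := isCoh_of_mono (kernel.ι v) hT (isQCoh_kernel hT.1 hvq v)
  have hideal : ∀ W : Y.affineOpens, J'.ideal ⟨f ⁻¹ᵁ W.1, W.2.preimage f⟩ = (J.ideal W).map (f.app W.1).hom :=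
    fun W => by
      rw [ModPairLib.ideal_comap J f W ⟨f ⁻¹ᵁ W.1, W.2.preimage f⟩ le_rfl, ← Scheme.Hom.app_eq_appLE]
  let l := (Scheme.Modules.pushforward f).map (kernel.ι v)
  obtain ⟨ψ, hψ⟩ := hJ _ l (isQCoh_pushforward f hG.1) fun W hW x => by
    have h0 : v.app (f ⁻¹ᵁ W) ((kernel.ι v).app (f ⁻¹ᵁ W) x) = 0 := congr(($(kernel.condition v)).app (f ⁻¹ᵁ W) x)
    have h1 := ((unit_app_closed J'.subschemeι hT.1 (hW.preimage f)).2 _).1 h0
    rw [Scheme.IdealSheafData.ker_subschemeι, hideal ⟨W, hW⟩] at h1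
    refine Submodule.smul_induction_on (p := fun (z : Γ(⨁ T, f ⁻¹ᵁ W)) =>
      (show Γ(A, W) from z) ∈ J.ideal ⟨W, hW⟩ • (⊤ : Submodule Γ(Y, W) Γ(A, W)))
      h1 (fun c hc m _ => ?_) fun z z' hz hz' => add_mem hz hz'
    refine Submodule.span_induction
      (p := fun c _ => ∀ m : Γ(⨁ T, f ⁻¹ᵁ W), (show Γ(A, W) from (show Γ(⨁ T, f ⁻¹ᵁ W) from c • m)) ∈
        J.ideal ⟨W, hW⟩ • (⊤ : Submodule Γ(Y, W) Γ(A, W))) ?_ ?_ ?_ ?_ hc m
    · rintro _ ⟨a, ha, rfl⟩ m
      exact Submodule.smul_mem_smul ha (Submodule.mem_top (x := (show Γ(A, W) from m)))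
    · intro m; rw [zero_smul]; exact zero_mem _
    · intro c c' _ _ hc hc' m; rw [add_smul]; exact add_mem (hc m) (hc' m)
    · intro a c _ hc m
      rw [smul_eq_mul, mul_comm, mul_smul]
      exact hc (a • m)
  have hlb : Function.Bijective (l.app V) := by
    refine ⟨app_injective (kernel.ι v) U, fun y => exists_kernel_lift v U y ?_⟩
    refine ((unit_app_closed J'.subschemeι hT.1 (hV.preimage f)).2 _).2 ?_
    rw [Scheme.IdealSheafData.ker_subschemeι, hideal ⟨V, hV⟩, hJV, Ideal.map_top, Submodule.top_smul]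
    trivial
  refine ⟨r, kernel v, ψ ≫ (biproduct.isoCoproduct S).hom, hr, hG,
    isIso_stalk_generic (isQCoh_pushforward f hG.1) ((isQCoh_iff_iso (biproduct.isoCoproduct S)).1 hS.1) _ hV hη ?_⟩
  have hψb : Function.Bijective (ψ.app V) := by
    rw [show ⇑(ψ.app V).hom = φ ∘ (l.app V) from funext hψ]
    exact φ.bijective.comp hlb
  exact (ConcreteCategory.bijective_of_isIso (Scheme.Modules.Hom.app (biproduct.isoCoproduct S).hom V)).comp hψb

end Groth.Agent.GenIsoFin
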